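import Groth.Agent.S0386
import Groth.Agent.DimLib.Morphism
import Mathlib.AlgebraicGeometry.ZariskisMainTheorem

/-!
# Flat and finite loci of a proper morphism to a variety of the same dimension
-/

set_option autoImplicit false
set_option linter.style.haveILetI false
set_option backward.isDefEq.respectTransparency.types false

universe u

open CategoryTheory AlgebraicGeometry TopologicalSpace

namespace Groth.Agent.ZCorr23

theorem loci {k : Type u} [Field k] {Z W : Scheme.{u}} (q : W ⟶ Spec (CommRingCat.of k)) [LocallyOfFiniteType q]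
    [IsIntegral W] [IsIntegral Z] (π : Z ⟶ W) [IsProper π] (n : ℕ) (hW : topologicalKrullDim W = n)
    (hZ : topologicalKrullDim Z = n) :
    (IsOpen {w : W | ∀ z : Z, π z = w → (π.stalkMap z).hom.Flat} ∧
      {w : W | ∀ z : Z, π z = w → (π.stalkMap z).hom.Flat}.Nonempty) ∧
    ∃ U : W.Opens, (U : Set W) = {w : W | (π ⁻¹' {w}).Finite} ∧ (U : Set W).Nonempty ∧ IsFinite (π ∣_ U) := by
  haveI : IsLocallyNoetherian W := LocallyOfFiniteType.isLocallyNoetherian q
  refine ⟨⟨?_, genericPoint W, fun z hz => ?_⟩, ?_⟩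
  · have e : {w : W | ∀ z : Z, π z = w → (π.stalkMap z).hom.Flat} =
        (π.base '' {z : Z | (π.stalkMap z).hom.Flat}ᶜ)ᶜ := Set.ext fun w =>
      ⟨fun h ⟨z, hz, hzw⟩ => hz (h z hzw), fun h z hzw => by_contra fun hn => h ⟨z, hn, hzw⟩⟩
    rw [e]
    exact (π.isClosedMap _ (S0386.result π).isClosed_compl).isOpen_compl
  · have hf : IsField (W.presheaf.stalk (π z)) := by
      rw [hz]; exact Field.toIsField W.functionField
    letI : Field (W.presheaf.stalk (π z)) := hf.toField
    exact (inferInstance : @Module.Flat (W.presheaf.stalk (π z)) (Z.presheaf.stalk z) _ _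
      (π.stalkMap z).hom.toAlgebra.toModule)
  have hfin : (π ⁻¹' {genericPoint W}).Finite := by
    refine (Set.subsingleton_singleton.anti (t := {genericPoint Z}) fun z hz => ?_).finite
    have h1 := DimLib.ptDim_apply_le q π z
    rw [show π z = genericPoint W from hz] at h1
    rw [DimLib.topologicalKrullDim_eq_ptDim_genericPoint q] at hW
    rw [DimLib.topologicalKrullDim_eq_ptDim_genericPoint (π ≫ q)] at hZ
    have hW' : DimLib.ptDim q (genericPoint W) = n := by exact_mod_cast hW
    have hZ' : DimLib.ptDim (π ≫ q) (genericPoint Z) = n := by exact_mod_cast hZ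
    by_contra hne
    have h2 := DimLib.ptDim_lt_of_specializes (π ≫ q) (genericPoint_specializes z) (Ne.symm hne)
    omega
  let U : W.Opens := ⟨{w : W | (π ⁻¹' {w}).Finite}, isOpen_iff_forall_mem_open.2 fun w hw => by
    obtain ⟨V, hwV, hV⟩ := exists_isFinite_morphismRestrict_of_finite_preimage_singleton π w hw
    refine ⟨V, fun v hv => ?_, V.isOpen, hwV⟩
    refine ((π ∣_ V).finite_preimage_singleton ⟨v, hv⟩).image Subtype.val |>.subset fun z hz => ?_
    have hzv : z ∈ π ⁻¹ᵁ V := by
      show π z ∈ V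
      rw [show π z = v from hz]; exact hv
    exact ⟨⟨z, hzv⟩, Subtype.ext ((morphismRestrict_base_coe π V ⟨z, hzv⟩).trans hz), rfl⟩⟩
  refine ⟨U, rfl, ⟨_, hfin⟩, ?_⟩
  haveI : LocallyQuasiFinite (π ∣_ U) := LocallyQuasiFinite.of_finite_preimage_singleton _ fun w =>
    ((w.2 : (π ⁻¹' {w.1}).Finite).preimage Subtype.val_injective.injOn).subset fun z hz =>
      (morphismRestrict_base_coe π U z).symm.trans (congrArg Subtype.val hz)
  exact IsFinite.of_isProper_of_locallyQuasiFinite _

end Groth.Agent.ZCorr23
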